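import Cfsg.Agent.H925.EP.Nodes
import Cfsg.Agent.Nodes.RGDTypeA
import Cfsg.Agent.Mrg.KFacts.RgdPerf
import Cfsg.Agent.KFacts.RgdFiltWitt

/-!
# `HasTM` for `PSL_n(q)`, `n ≥ 3` (S4929, helper925)
-/

set_option autoImplicit false
set_option linter.unusedSectionVars false

open Matrix CoxeterSystem Cfsg.Agent.ChevalleyStructure.CoxeterGeom Cfsg.Agent.Tits.Roots Cfsg.Agent.Tits.Core
  Cfsg.Agent.Nodes.Reps Cfsg.Agent.Nodes.BNOf Cfsg.Agent.Nodes.RGDLib Cfsg.Agent.Nodes.RootsA
  Cfsg.Agent.Omega.EH3.Kf.Lev Cfsg.Agent.Omega.EH3.Kf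
open Cfsg.Agent.LieRecognition.BNCox (cA)
open Cfsg.Agent.TitsThree.KSideA (tv tv_of_ne tv_add tv_zero tv_neg tv_comm tv_commute diag2n_eq)
open Cfsg.Agent.Nodes.RGDTypeA (tv_val X_sr T mem_T Mono ns nn rgd_psl G1_psl_eq_top pr pr_surjective)
open Cfsg.Agent.H934.PQR.TorGen Cfsg.Agent.H892.EP
open Cfsg.Agent.Nodes.RGDFoldSL (wS hS)
open Cfsg.Agent.ChevalleyStructure.SL2Hom (up lo)

namespace Cfsg.Agent.H925.EP

/-! ### the embedding of `SL₂` in the coordinates `a`, `b` -/

section Emb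

variable {ι F : Type*} [Field F] [DecidableEq ι] [Fintype ι]

/-- the coordinate matrix -/
def cP (F : Type*) [Field F] (a b : ι) : Matrix ι (Fin 2) F := Matrix.of fun i j => if i = ![a, b] j then 1 else 0

theorem cP_apply (a b : ι) (i : ι) (j : Fin 2) : cP F a b i j = if i = ![a, b] j then 1 else 0 := rfl

theorem cP_mul {a b : ι} (hab : a ≠ b) : (cP F a b)ᵀ * cP F a b = 1 := by
  ext i j
  rw [Matrix.mul_apply]
  simp only [Matrix.transpose_apply, cP_apply, ite_mul, one_mul, zero_mul, Finset.sum_ite_eq', Finset.mem_univ, if_true]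
  fin_cases i <;> fin_cases j <;> simp [hab, hab.symm]

/-- the embedding of the monoid of `2 × 2` matrices -/
def eM {a b : ι} (hab : a ≠ b) : Matrix (Fin 2) (Fin 2) F →* Matrix ι ι F where
  toFun g := 1 + cP F a b * (g - 1) * (cP F a b)ᵀ
  map_one' := by rw [sub_self, Matrix.mul_zero, Matrix.zero_mul, add_zero]
  map_mul' g k := by
    have h1 : cP F a b * (g - 1) * (cP F a b)ᵀ * (cP F a b * (k - 1) * (cP F a b)ᵀ) =
        cP F a b * ((g - 1) * (k - 1)) * (cP F a b)ᵀ := by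
      calc cP F a b * (g - 1) * (cP F a b)ᵀ * (cP F a b * (k - 1) * (cP F a b)ᵀ)
          = cP F a b * (g - 1) * ((cP F a b)ᵀ * cP F a b) * ((k - 1) * (cP F a b)ᵀ) := by
            simp only [Matrix.mul_assoc]
        _ = _ := by
            rw [cP_mul hab, Matrix.mul_one]
            simp only [Matrix.mul_assoc]
    have h2 : g * k - 1 = (g - 1) + (k - 1) + (g - 1) * (k - 1) := by noncomm_ring
    rw [h2, Matrix.mul_add, Matrix.mul_add, Matrix.add_mul, Matrix.add_mul, add_mul, mul_add, mul_add, h1, one_mul,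
      mul_one, one_mul]
    abel

theorem eM_apply {a b : ι} (hab : a ≠ b) (g : Matrix (Fin 2) (Fin 2) F) (x y : ι) :
    eM hab g x y = (1 : Matrix ι ι F) x y + ∑ i, ∑ j, (if x = ![a, b] i then 1 else 0) * ((g - 1) i j) *
      (if y = ![a, b] j then 1 else 0) := by
  show (((1 : Matrix ι ι F) + cP F a b * (g - 1) * (cP F a b)ᵀ : Matrix ι ι F)) x y = _
  rw [Matrix.add_apply, Matrix.mul_apply, Finset.sum_comm]
  congr 1
  refine Finset.sum_congr rfl fun j _ => ?_
  rw [Matrix.mul_apply, Finset.sum_mul]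
  rfl

theorem eM_up {a b : ι} (hab : a ≠ b) (t : F) : eM hab (up t : Matrix.SpecialLinearGroup (Fin 2) F).1 = (tv a b t).1 := by
  rw [tv_val hab]
  ext x y
  rw [eM_apply, Matrix.add_apply]
  congr 1
  have h1 : (up t : Matrix.SpecialLinearGroup (Fin 2) F).1 - 1 = Matrix.of ![![0, t], ![0, 0]] := by
    show (!![1, t; 0, 1] : Matrix (Fin 2) (Fin 2) F) - 1 = _
    ext i j
    fin_cases i <;> fin_cases j <;> simp
  rw [h1, Matrix.single_apply]
  simp only [Fin.sum_univ_two]
  by_cases hx : x = a <;> by_cases hy : y = b <;> simp [hx, hy, hab, hab.symm, eq_comm (a := a), eq_comm (a := b)]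

theorem eM_lo {a b : ι} (hab : a ≠ b) (t : F) : eM hab (lo t : Matrix.SpecialLinearGroup (Fin 2) F).1 = (tv b a t).1 := by
  rw [tv_val hab.symm]
  ext x y
  rw [eM_apply, Matrix.add_apply]
  congr 1
  have h1 : (lo t : Matrix.SpecialLinearGroup (Fin 2) F).1 - 1 = Matrix.of ![![0, 0], ![t, 0]] := by
    show (!![1, 0; t, 1] : Matrix (Fin 2) (Fin 2) F) - 1 = _
    ext i j
    fin_cases i <;> fin_cases j <;> simp
  rw [h1, Matrix.single_apply]
  simp only [Fin.sum_univ_two]
  by_cases hx : x = b <;> by_cases hy : y = a <;> simp [hx, hy, hab, hab.symm, eq_comm (a := a), eq_comm (a := b)]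

/-- the determinant of the embedded matrix, as a homomorphism on `SL₂` -/
def dM {a b : ι} (hab : a ≠ b) : Matrix.SpecialLinearGroup (Fin 2) F →* F :=
  Matrix.detMonoidHom.comp ((eM hab).comp
    { toFun := fun g => g.1, map_one' := rfl, map_mul' := fun _ _ => Matrix.SpecialLinearGroup.coe_mul _ _ })

theorem dM_apply {a b : ι} (hab : a ≠ b) (g : Matrix.SpecialLinearGroup (Fin 2) F) :
    dM hab g = (eM hab g.1).det := rfl

theorem det_eM {a b : ι} (hab : a ≠ b) (g : Matrix.SpecialLinearGroup (Fin 2) F) : (eM hab g.1).det = 1 := by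
  rw [← dM_apply]
  have h1 := Cfsg.Agent.ChevalleyStructure.SL2Hom.mem_closure_SL2 g
  induction h1 using Subgroup.closure_induction with
  | mem x hx =>
    rcases hx with ⟨t, rfl⟩ | ⟨t, rfl⟩
    · rw [dM_apply, eM_up]; exact (tv a b t).2
    · rw [dM_apply, eM_lo]; exact (tv b a t).2
  | one => exact map_one _
  | mul x y _ _ hx hy => rw [map_mul, hx, hy, one_mul]
  | inv x _ hx =>
    have h2 : dM hab x * dM hab x⁻¹ = 1 := by rw [← map_mul, mul_inv_cancel, map_one]
    rwa [hx, one_mul] at h2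

/-- the embedding of `SL₂` -/
def eS {a b : ι} (hab : a ≠ b) : Matrix.SpecialLinearGroup (Fin 2) F →* Matrix.SpecialLinearGroup ι F where
  toFun g := ⟨eM hab g.1, det_eM hab g⟩
  map_one' := Subtype.ext (map_one (eM hab))
  map_mul' x y := Subtype.ext (map_mul (eM hab) x.1 y.1)

theorem eS_up {a b : ι} (hab : a ≠ b) (t : F) : eS hab (up t) = tv a b t := Subtype.ext (eM_up hab t)

theorem eS_lo {a b : ι} (hab : a ≠ b) (t : F) : eS hab (lo t) = tv b a t := Subtype.ext (eM_lo hab t)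

theorem eS_tau {a b : ι} (hab : a ≠ b) (c : Fˣ) : eS hab (tau c) ∈ T ι F := by
  rw [mem_T]
  intro x y hxy
  by_contra hne
  apply hxy
  have hne' : x ≠ y := hne
  show eM hab (tau c : Matrix.SpecialLinearGroup (Fin 2) F).1 x y = 0
  rw [eM_apply, Matrix.one_apply_ne hne', zero_add]
  refine Finset.sum_eq_zero fun i _ => Finset.sum_eq_zero fun j _ => ?_
  by_cases hij : i = j
  · subst hij
    by_cases hx : x = ![a, b] i
    · have hy : y ≠ ![a, b] i := fun h => hne' (hx.trans h.symm)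
      rw [if_neg hy, mul_zero]
    · rw [if_neg hx, zero_mul, zero_mul]
  · have h1 : ((tau c : Matrix.SpecialLinearGroup (Fin 2) F).1 - 1) i j = 0 := by
      rw [Matrix.sub_apply, Matrix.one_apply_ne hij, sub_zero]
      show (!![(c : F), 0; 0, ((c⁻¹ : Fˣ) : F)] : Matrix (Fin 2) (Fin 2) F) i j = 0
      fin_cases i <;> fin_cases j <;> simp_all
    rw [h1, mul_zero, zero_mul]

end Emb

section PSL

variable {n : ℕ} {F : Type*} [Field F]

theorem T_comm {ι : Type*} [DecidableEq ι] [Fintype ι] {x y : Matrix.SpecialLinearGroup ι F} (hx : x ∈ T ι F)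
    (hy : y ∈ T ι F) : x * y = y * x := by
  have h1 : ∀ z ∈ T ι F, z.1 = Matrix.diagonal fun i => z.1 i i := by
    intro z hz
    ext i j
    by_cases hij : i = j
    · subst hij; rw [Matrix.diagonal_apply_eq]
    · rw [Matrix.diagonal_apply_ne _ hij]
      by_contra h
      exact hij (mem_T.1 hz i j h)
  apply Subtype.ext
  rw [Matrix.SpecialLinearGroup.coe_mul, Matrix.SpecialLinearGroup.coe_mul, h1 x hx, h1 y hy,
    Matrix.diagonal_mul_diagonal, Matrix.diagonal_mul_diagonal]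
  congr 1
  funext i
  exact mul_comm _ _

/-- the nodes of `PSL_{n+1}(F)` -/
theorem node_psl (i : Fin n) : Node ((T (Fin (n + 1)) F).map (pr n F)) (fun i => pr n F (ns n F i))
    (fun x => (Nodes.RGDTypeA.X F x).map (pr n F)) i ((pr n F).comp (eS (F := F) (Fin.castSucc_lt_succ (i := i)).ne)) where
  mem u := by
    constructor
    · rintro ⟨v, hv, rfl⟩
      rw [X_sr] at hv
      obtain ⟨t, rfl⟩ := hv
      exact ⟨t, by rw [MonoidHom.comp_apply, eS_up]⟩
    · rintro ⟨t, rfl⟩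
      refine ⟨tv i.castSucc i.succ t, ?_, by rw [MonoidHom.comp_apply, eS_up]⟩
      rw [X_sr]
      exact ⟨t, rfl⟩
  ns := by
    show (pr n F) (eS _ (up 1 * (lo (-1⁻¹) * up 1))) = (pr n F) (nn i.castSucc i.succ 1)
    congr 1
    rw [map_mul, map_mul, eS_up, eS_lo]
    unfold Nodes.RGDTypeA.nn
    rw [mul_assoc]
  tor c := ⟨_, eS_tau _ c, rfl⟩

end PSL

section Row

variable {F : Type} [Field F] [Fintype F] {r : ℕ} [Fact r.Prime] [CharP F r]

theorem tm_psl {n : ℕ} (hn : 3 ≤ n) : HasTM r (Fintype.card F - 1) (ProjectiveSpecialLinearGroup (Fin n) F) := by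
  obtain ⟨k, rfl⟩ : ∃ k, n = k + 1 := ⟨n - 1, by omega⟩
  have hc : ∀ i j : Fin k, cA k i j ≤ 3 := by
    intro i j
    rw [Cfsg.Agent.LieRecognition.BNCox.cA_apply]
    show (if (i : ℕ) = j then 1 else if (i : ℕ) + 1 = j ∨ (j : ℕ) + 1 = i then 3 else 2) ≤ 3
    split_ifs <;> norm_num
  have hW : Finite (cA k).Group := finite_W (cA k).toCoxeterSystem (isCartan k)
  have R := rgd_psl (F := F) (p := r) (cA k).toCoxeterSystem (isCartan k)
  have : Finite (ProjectiveSpecialLinearGroup (Fin (k + 1)) F) := inferInstance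
  refine hasTM_of_nodes R (G1_psl_eq_top _ _) ?_ _ (fun i => node_psl i) ⟨0, by omega⟩ rfl ?_
  · rintro _ ⟨x, hx, rfl⟩ _ ⟨y, hy, rfl⟩
    rw [← map_mul, T_comm hx hy, map_mul]
  · intro _
    exact comm_of_sl R (Cfsg.Agent.KFacts.RgdFiltWitt.sl_of_ne (fun i j h => by have := hc i j; omega)
      (fun i j h => by have := hc i j; omega))

end Row

end Cfsg.Agent.H925.EP
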