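import Cfsg.Agent.H892.EP.TM
import Cfsg.Agent.H934.PQR.TorGen

/-!
# `HasTM` from nodes `SL₂(F i)` (S4929, helper925)

* `hasTM_of_tori` : the torus is the join of subgroups `A i ≤ T`, the elements of order `p` of `A i` are moved by `n i`;
* `hasTM_of_nodes` : all nodes are parametrised by `SL₂(F i)`;
* `dvd_card_T` : `p ∣ #F - 1`, `p` odd, `F` the field of some node, implies `p ∣ #T`.
-/

set_option autoImplicit false
set_option linter.unusedSectionVars false

open CoxeterSystem Cfsg.Agent.ChevalleyStructure.CoxeterGeom Cfsg.Agent.Tits.Roots Cfsg.Agent.Tits.Core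
  Cfsg.Agent.Nodes.Reps Cfsg.Agent.Nodes.BNOf Cfsg.Agent.Omega.EH3.Kf.Lev
open Cfsg.Agent.H934.PQR.TorGen Cfsg.Agent.H892.EP
open Cfsg.Agent.Nodes.RGDFoldSL (wS hS)
open Cfsg.Agent.ChevalleyStructure.SL2Hom (up lo)

namespace Cfsg.Agent.H925.EP

universe u

/-- a prime divisor of the order of an abelian join divides the order of one of the members -/
theorem exists_dvd_of_iSup {G ι : Type*} [Group G] [Finite G] [Finite ι] (T : Subgroup G)
    (hT : ∀ a ∈ T, ∀ b ∈ T, a * b = b * a) (A : ι → Subgroup G) (h : T = ⨆ i, A i) {p : ℕ} (hp : p.Prime)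
    (hd : p ∣ Nat.card T) : ∃ i, p ∣ Nat.card (A i) := by
  classical
  have := Fintype.ofFinite ι
  have : Fact p.Prime := ⟨hp⟩
  obtain ⟨⟨t, ht⟩, hto⟩ := exists_prime_orderOf_dvd_card' p hd
  have hto' : orderOf t = p := by rw [← hto, Subgroup.orderOf_mk]
  set N := ∏ i, Nat.card (A i) with hN
  have key : ∀ s ∈ T, s ^ N = 1 := by
    intro s hs
    have h1 : (⨆ i, A i) ≤ T := h.ge
    let K : Subgroup G :=
      { carrier := {s | s ∈ T ∧ s ^ N = 1}
        mul_mem' := fun {a b} ha hb => ⟨T.mul_mem ha.1 hb.1, by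
          have : Commute a b := hT a ha.1 b hb.1
          rw [this.mul_pow, ha.2, hb.2, one_mul]⟩
        one_mem' := ⟨T.one_mem, one_pow _⟩
        inv_mem' := fun {a} ha => ⟨T.inv_mem ha.1, by rw [inv_pow, ha.2, inv_one]⟩ }
    have h2 : (⨆ i, A i) ≤ K := by
      refine iSup_le fun i x hx => ⟨h1 (Subgroup.mem_iSup_of_mem i hx), ?_⟩
      obtain ⟨c, hc⟩ : Nat.card (A i) ∣ N := Finset.dvd_prod_of_mem _ (Finset.mem_univ i)
      have h3 : x ^ Nat.card (A i) = 1 := by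
        have h4 := pow_card_eq_one' (x := (⟨x, hx⟩ : A i))
        exact congrArg Subtype.val h4
      rw [hc, pow_mul, h3, one_pow]
    exact (h2 (h ▸ hs)).2
  have h1 : p ∣ N := by
    rw [← hto']
    exact orderOf_dvd_of_pow_eq_one (key t ht)
  obtain ⟨i, -, hi⟩ := (hp.prime.dvd_finsetProd_iff _).1 h1
  exact ⟨i, hi⟩

section

variable {l : ℕ} {M : CoxeterMatrix (Fin l)} {A : Fin l → Fin l → ℤ} {h : IsCartan M A} {Y : Type u} [Group Y]
  {T : Subgroup Y} {n : Fin l → Y} {X : (Fin l → ℤ) → Subgroup Y} {r m : ℕ}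

theorem hasTM_of_tori [Finite Y] [Finite M.Group] (R : RGD M.toCoxeterSystem h r T n X)
    (hG : Nodes.RGDLib.G1 M.toCoxeterSystem h X = ⊤) (hT : ∀ a ∈ T, ∀ b ∈ T, a * b = b * a)
    (B : Fin l → Subgroup Y) (hB : T = ⨆ i, B i)
    (hmv : ∀ i, ∀ t ∈ B i, ∀ p : ℕ, p.Prime → p ≠ 2 → orderOf t = p → n i * t ≠ t * n i)
    (hm : ∀ p : ℕ, p.Prime → p ≠ 2 → p ∣ m → p ∣ Nat.card T) (hC : r = 2 → CommGen M.toCoxeterSystem h X) :
    HasTM r m Y := by
  refine ⟨l, M, A, h, T, n, X, inferInstance, R, hG, hT, ?_, hm, hC⟩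
  intro p hp hp2 hd
  have : Fact p.Prime := ⟨hp⟩
  obtain ⟨i, hi⟩ := exists_dvd_of_iSup T hT B hB hp hd
  obtain ⟨⟨t, ht⟩, hto⟩ := exists_prime_orderOf_dvd_card' p hi
  have hto' : orderOf t = p := by rw [← hto, Subgroup.orderOf_mk]
  refine ⟨i, t, hB ▸ Subgroup.mem_iSup_of_mem i ht, ⟨1, ?_⟩, hmv i t ht p hp hp2 hto'⟩
  rw [pow_one, ← hto', pow_orderOf_eq_one]

/-- an inverted element of odd prime order is moved -/
theorem moved_of_inv {n t : Y} {p : ℕ} (hp : p.Prime) (hp2 : p ≠ 2) (ht : orderOf t = p) (hi : n * t * n⁻¹ = t⁻¹) :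
    n * t ≠ t * n := by
  intro h1
  rw [h1, mul_inv_cancel_right] at hi
  have h2 : t ^ 2 = 1 := by
    rw [pow_two]
    nth_rewrite 1 [hi]
    exact inv_mul_cancel t
  have h3 := orderOf_dvd_of_pow_eq_one h2
  rw [ht] at h3
  exact hp2 ((Nat.prime_dvd_prime_iff_eq hp Nat.prime_two).1 h3)

theorem tau_up {F : Type*} [Field F] (c : Fˣ) (a : F) : tau c * up a * (tau c)⁻¹ = up ((c : F) ^ 2 * a) := by
  rw [mul_inv_eq_iff_eq_mul]
  apply Subtype.ext
  rw [Matrix.SpecialLinearGroup.coe_mul, Matrix.SpecialLinearGroup.coe_mul, coe_tau]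
  show !![(c : F), 0; 0, ((c⁻¹ : Fˣ) : F)] * !![1, a; 0, 1] =
    !![1, (c : F) ^ 2 * a; 0, 1] * !![(c : F), 0; 0, ((c⁻¹ : Fˣ) : F)]
  have hc : (c : F) ≠ 0 := c.ne_zero
  ext i j
  fin_cases i <;> fin_cases j <;> simp [Matrix.mul_apply, Fin.sum_univ_two]
  field_simp

/-- `p ∣ #F - 1`, `p` odd, `F` the field of the node `i`, implies `p ∣ #T` -/
theorem dvd_card_T [Finite Y] (R : RGD M.toCoxeterSystem h r T n X) {i : Fin l} {F : Type*} [Field F] [Fintype F]
    {Φ : Matrix.SpecialLinearGroup (Fin 2) F →* Y} (N : Node T n X i Φ) {p : ℕ} (hp : p.Prime) (hp2 : p ≠ 2)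
    (hd : p ∣ Fintype.card F - 1) : p ∣ Nat.card T := by
  classical
  have : Fact p.Prime := ⟨hp⟩
  have h1 : p ∣ Nat.card Fˣ := by rwa [Nat.card_eq_fintype_card, Fintype.card_units]
  obtain ⟨c, hc⟩ := exists_prime_orderOf_dvd_card' p h1
  by_cases h2 : Φ (tau c) = 1
  · exfalso
    have hc2 : (c : F) ^ 2 - 1 ≠ 0 := by
      intro h3
      have h4 : c ^ 2 = 1 := Units.ext (by
        rw [Units.val_pow_eq_pow_val, Units.val_one]
        exact sub_eq_zero.1 h3)
      have h5 := orderOf_dvd_of_pow_eq_one h4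
      rw [hc] at h5
      exact hp2 ((Nat.prime_dvd_prime_iff_eq hp Nat.prime_two).1 h5)
    have hup : ∀ b : F, Φ (up b) = 1 := by
      intro b
      have h3 : ∀ a, Φ (up a) = Φ (up ((c : F) ^ 2 * a)) := by
        intro a
        rw [← tau_up, map_mul, map_mul, map_inv, h2]
        group
      have h4 : (up (((c : F) ^ 2 - 1)⁻¹ * b + b) : Matrix.SpecialLinearGroup (Fin 2) F) =
          up ((c : F) ^ 2 * (((c : F) ^ 2 - 1)⁻¹ * b)) := by
        congr 1
        field_simp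
        ring
      have h5 : (up (((c : F) ^ 2 - 1)⁻¹ * b + b) : Matrix.SpecialLinearGroup (Fin 2) F) =
          up (((c : F) ^ 2 - 1)⁻¹ * b) * up b := by
        apply Subtype.ext
        show !![(1 : F), _; 0, 1] = !![(1 : F), _; 0, 1] * !![1, b; 0, 1]
        simp [add_comm]
      have h6 := h3 (((c : F) ^ 2 - 1)⁻¹ * b)
      rw [← h4, h5, map_mul] at h6
      exact left_eq_mul.1 h6
    have hX : X (sr i) = ⊥ := by
      rw [eq_bot_iff]
      intro u hu
      obtain ⟨a, rfl⟩ := (N.mem u).1 hu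
      exact hup a
    have hX' : X (-sr i) = ⊥ := by
      have h7 : cj (n i) (X (sr i)) = X (-sr i) := by
        rw [R.conj i _ (isRoot_sr _ h i), rep_simple_sr]
      rw [← h7, hX]
      exact Subgroup.map_bot _
    apply R.notp i
    rw [hX, hX', sup_idem]
    exact IsPGroup.of_bot
  · have h3 : orderOf (Φ (tau c)) = p := by
      refine orderOf_eq_prime ?_ h2
      have h4 : c ^ p = 1 := by rw [← hc, pow_orderOf_eq_one]
      rw [← map_pow, ← map_pow, h4, map_one, map_one]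
    rw [← h3, ← Subgroup.orderOf_mk (Φ (tau c)) (N.tor c)]
    exact orderOf_dvd_natCard _

/-- **all nodes are `SL₂`** -/
theorem hasTM_of_nodes [Finite Y] [Finite M.Group] [hr : Fact r.Prime] (R : RGD M.toCoxeterSystem h r T n X)
    (hG : Nodes.RGDLib.G1 M.toCoxeterSystem h X = ⊤) (hT : ∀ a ∈ T, ∀ b ∈ T, a * b = b * a)
    {F : Fin l → Type*} [∀ i, Field (F i)] (Φ : ∀ i, Matrix.SpecialLinearGroup (Fin 2) (F i) →* Y)
    (N : ∀ i, Node T n X i (Φ i)) (i0 : Fin l) [Fintype (F i0)] (hm : m = Fintype.card (F i0) - 1)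
    (hC : r = 2 → CommGen M.toCoxeterSystem h X) : HasTM r m Y := by
  refine hasTM_of_tori R hG hT (fun i => AA (Φ i)) (T_eq_iSup R hG Φ N) ?_ ?_ hC
  · intro i t ht p hp hp2 hto
    exact moved_of_inv hp hp2 hto ((N i).inv ht)
  · intro p hp hp2 hd
    rw [hm] at hd
    exact dvd_card_T R (N i0) hp hp2 hd

end

end Cfsg.Agent.H925.EP
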